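import Groth.Agent.CurvesB.DimPts
import Mathlib.Topology.JacobsonSpace
import Mathlib.Topology.KrullDimension

/-!
# Irreducibility of a locus from a dense part and a part of small dimension

* `dim_le_closedPoints`: the dimension of a Jacobson space is that of its set of closed points.
* `irreducible_of_dim`: let `T` be the set of closed points of an open subset of a Jacobson scheme, `T ⊆ S ∪ D` with
  `S ⊆ T` irreducible, `dim D < N` and all local rings at points of `T` of dimension at least `N`. Then `T` is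
  irreducible.
* `subset_closure_of_dim`: without irreducibility of `S`, still `T ⊆ closure S`.
-/

set_option autoImplicit false
universe u
open CategoryTheory AlgebraicGeometry TopologicalSpace

namespace Groth.Agent.Fano.K468.AsmTop

theorem dim_le_closedPoints {X : Type*} [TopologicalSpace X] [JacobsonSpace X] :
    topologicalKrullDim X ≤ topologicalKrullDim ↥(closedPoints X) := by
  let F : IrreducibleCloseds X → IrreducibleCloseds ↥(closedPoints X) := fun Z =>
    { carrier := Subtype.val ⁻¹' (Z : Set X)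
      isIrreducible' := by
        refine ⟨?_, ?_⟩
        · obtain ⟨x, hx, hx'⟩ := nonempty_inter_closedPoints Z.isIrreducible.nonempty
            Z.isClosed.isLocallyClosed
          exact ⟨⟨x, hx'⟩, hx⟩
        · rintro _ _ ⟨U, hU, rfl⟩ ⟨V, hV, rfl⟩ ⟨x, hx, hxU⟩ ⟨y, hy, hyV⟩
          obtain ⟨z, hz, hzUV⟩ := Z.isIrreducible.isPreirreducible U V hU hV ⟨x, hx, hxU⟩ ⟨y, hy, hyV⟩
          obtain ⟨w, hw, hw'⟩ := nonempty_inter_closedPoints (Z := (Z : Set X) ∩ (U ∩ V)) ⟨z, hz, hzUV⟩
            (Z.isClosed.isLocallyClosed.inter (hU.inter hV).isLocallyClosed)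
          exact ⟨⟨w, hw'⟩, hw.1, hw.2⟩
      isClosed' := Z.isClosed.preimage continuous_subtype_val }
  have hF : StrictMono F := by
    refine Monotone.strictMono_of_injective (fun Z Z' h x hx => h hx) fun Z Z' h => ?_
    have h1 : ∀ W : IrreducibleCloseds X, closure ((W : Set X) ∩ closedPoints X) = W := fun W => by
      rw [JacobsonSpace.closure_inter_closedPoints_eq_closure W.isClosed.isLocallyClosed, W.isClosed.closure_eq]
    have h2 : (Z : Set X) ∩ closedPoints X = (Z' : Set X) ∩ closedPoints X := by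
      have h3 : ∀ x : ↥(closedPoints X), x.1 ∈ (Z : Set X) ↔ x.1 ∈ (Z' : Set X) := fun x => by
        have h4 : x ∈ (F Z) ↔ x ∈ (F Z') := by rw [h]
        exact h4
      ext x
      exact ⟨fun hx => ⟨(h3 ⟨x, hx.2⟩).1 hx.1, hx.2⟩, fun hx => ⟨(h3 ⟨x, hx.2⟩).2 hx.1, hx.2⟩⟩
    apply SetLike.coe_injective
    rw [← h1 Z, ← h1 Z', h2]
  exact Order.krullDim_le_of_strictMono F hF

theorem irreducible_of_closure {X : Type*} [TopologicalSpace X] {S T : Set X} (hS : IsIrreducible S) (hST : S ⊆ T)
    (hT : T ⊆ closure S) : IsIrreducible T := by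
  rw [← isIrreducible_iff_closure] at hS ⊢
  have h : closure T = closure S := (closure_minimal hT isClosed_closure).antisymm (closure_mono hST)
  rwa [h]

theorem subset_closure_of_dim {X : Scheme.{u}} [JacobsonSpace X] (A : X.Opens) {T S D : Set X}
    (hT : ∀ x : X, x ∈ T ↔ x ∈ A ∧ IsClosed ({x} : Set X)) (hTSD : T ⊆ S ∪ D)
    {N : WithBot ℕ∞} (hdim : ∀ x ∈ T, N ≤ ringKrullDim (X.presheaf.stalk x))
    (hD : topologicalKrullDim D < N) : T ⊆ closure S := by
  intro x hx
  by_contra hxS
  let U : X.Opens := A ⊓ ⟨(closure S)ᶜ, isClosed_closure.isOpen_compl⟩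
  have hxU : x ∈ U := ⟨((hT x).1 hx).1, hxS⟩
  have hJ : JacobsonSpace ↥(U : Scheme.{u}) := JacobsonSpace.of_isOpenEmbedding U.ι.isOpenEmbedding
  have h1 : N ≤ topologicalKrullDim ↥(U : Scheme.{u}) := by
    refine (hdim x hx).trans ?_
    have h2 := Groth.Agent.CurvesB.DimPts.ringKrullDim_stalk_le (X := (U : Scheme.{u})) ⟨x, hxU⟩
    refine le_trans (le_of_eq ?_) h2
    have h3 := ringKrullDim_eq_of_ringEquiv (asIso (U.ι.stalkMap ⟨x, hxU⟩)).commRingCatIsoToRingEquiv
    exact h3
  have h2 : topologicalKrullDim ↥(closedPoints ↥(U : Scheme.{u})) ≤ topologicalKrullDim D := by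
    have hmem : ∀ z : ↥(closedPoints ↥(U : Scheme.{u})), U.ι z.1 ∈ D := by
      rintro ⟨z, hz⟩
      have hz1 : IsClosed ({U.ι z} : Set X) := by
        have h5 := U.ι.isOpenEmbedding.preimage_closedPoints
        rw [← h5] at hz
        exact hz
      have hzU : U.ι z ∈ U := z.2
      have hzT : U.ι z ∈ T := (hT _).2 ⟨hzU.1, hz1⟩
      refine (hTSD hzT).resolve_left fun hzS => hzU.2 (subset_closure hzS)
    have hind : Topology.IsInducing (fun z : ↥(closedPoints ↥(U : Scheme.{u})) => (⟨U.ι z.1, hmem z⟩ : D)) := by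
      rw [← Topology.IsInducing.subtypeVal.of_comp_iff]
      exact U.ι.isOpenEmbedding.isInducing.comp Topology.IsInducing.subtypeVal
    exact hind.topologicalKrullDim_le
  exact absurd (h1.trans (dim_le_closedPoints.trans h2)) (not_le_of_gt hD)

theorem irreducible_of_dim {X : Scheme.{u}} [JacobsonSpace X] (A : X.Opens) {T S D : Set X}
    (hT : ∀ x : X, x ∈ T ↔ x ∈ A ∧ IsClosed ({x} : Set X)) (hTSD : T ⊆ S ∪ D) (hS : IsIrreducible S) (hST : S ⊆ T)
    {N : WithBot ℕ∞} (hdim : ∀ x ∈ T, N ≤ ringKrullDim (X.presheaf.stalk x))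
    (hD : topologicalKrullDim D < N) : IsIrreducible T :=
  irreducible_of_closure hS hST (subset_closure_of_dim A hT hTSD hdim hD)

end Groth.Agent.Fano.K468.AsmTop
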