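import Groth.Agent.Fano.K468.Locus
import Groth.Agent.Fano.K468.AsmTop
import Groth.Agent.Fano.K468.QNF
import Groth.Agent.Fano.K387.RatFam
import Groth.Agent.Fano.K434.HilbFam
import Groth.Agent.Fano.K475.QuartHom

/-!
# Assembly of S16525 (rational quartics on a smooth cubic threefold)

* `exists_hilb`: a closed immersion `i : C → V_+(f)` with `C` proper and flat over `k` has a point of the Hilbert scheme.
* `degSet f H Z`: the set `T` of S16531 (degenerate smooth rational quartics).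
* `main4`: the statement of S16525 from the nodes Q2, Q3, A1, E4 and S16531.
-/

set_option autoImplicit false
universe u
open CategoryTheory CategoryTheory.Limits AlgebraicGeometry TopologicalSpace Opposite

namespace Groth.Agent.Fano.K468.Asm4

open Groth.Agent.Fano.K714.Rat Groth.Agent.Fano.K468.Locus Groth.Agent.Fano.K468.AsmTop
open Groth.Agent.Fano.K468.Q K714.Irr LefPen

variable {k : Type u} [Field k]

theorem exists_hilb {X C : Scheme.{u}} (x : X ⟶ Spec (CommRingCat.of k))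
    (H : Over (Spec (CommRingCat.of k))) (Z : FGA.HilbSet x H) (hH : FGA.HilbRepresentedBy x H Z)
    (i : C ⟶ X) [IsClosedImmersion i] (hpr : IsProper (i ≫ x)) [IsSeparated x] :
    ∃ h : pt k ⟶ H, FGA.hilbPull x h Z.1 = i.ker.comap (pullback.fst x (pt k).hom) := by
  have hid : Spec.map (CommRingCat.ofHom (RingHom.id k)) = 𝟙 (Spec (CommRingCat.of k)) := by
    rw [CommRingCat.ofHom_id, Spec.map_id]
  have hjw : i ≫ x = (i ≫ x) ≫ Spec.map (CommRingCat.ofHom (RingHom.id k)) := by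
    rw [hid, Category.comp_id]
  have hflat : Flat (i ≫ x) := inferInstance
  have hcl' : IsClosedImmersion (pullback.lift i (i ≫ x) hjw) := by
    have : IsClosedImmersion (pullback.lift i (i ≫ x) hjw ≫
        pullback.fst x (Spec.map (CommRingCat.ofHom (RingHom.id k)))) := by
      rw [pullback.lift_fst]; infer_instance
    have hs : IsSeparated (pullback.fst x (Spec.map (CommRingCat.ofHom (RingHom.id k)))) := inferInstance
    exact IsClosedImmersion.of_comp _ (pullback.fst x (Spec.map (CommRingCat.ofHom (RingHom.id k))))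
  obtain ⟨g, hg⟩ := K434.HilbFam.exists_hom_of_family x H Z hH k (RingHom.id k) (i ≫ x) i hjw hcl'
  have hm : Spec.map (CommRingCat.ofHom (RingHom.id k)) ≫ Spec.map (CommRingCat.ofHom (RingHom.id k)) =
      𝟙 (Spec (CommRingCat.of k)) := by rw [hid, Category.comp_id]
  have hpb : IsPullback (𝟙 C) (i ≫ x) (i ≫ x)
      (Spec.map (CommRingCat.ofHom (RingHom.id k))) := by
    rw [hid]
    exact IsPullback.of_horiz_isIso ⟨by simp⟩
  refine ⟨_, (hg (RingHom.id k) hm _ (i ≫ x) (𝟙 _) hpb).trans ?_⟩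
  rw [Category.id_comp]

theorem exists_isClass (f : Form 4 k 3) (H : Over (Spec (CommRingCat.of k))) (Z : FGA.HilbSet (ps f) H)
    (hH : FGA.HilbRepresentedBy (ps f) H Z) {d : ℕ} {c : Fin (d + 1) → Fin 5 → k}
    {i : CohB1.ProjSpace 1 k ⟶ Xf f} (hi : IsPar f d c i) (hcl : IsClosedImmersion i) :
    ∃ x, IsClass f H Z d c x := by
  have hp1 : IsProper (CohB1.ProjSpace.toSpec 1 k) := Groth.Agent.Ega3B.ProjProper.isProper_toSpec 1 k
  have hp4 : IsProper (CohB1.ProjSpace.toSpec 4 k) := Groth.Agent.Ega3B.ProjProper.isProper_toSpec 4 k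
  obtain ⟨h, hh⟩ := exists_hilb (ps f) H Z hH i (by rw [hi.1]; exact hp1)
  exact ⟨_, h, i, rfl, hi, hh⟩

/-- degree of a parametrised curve -/
theorem nonempty_iso_of_isPar (f : Form 4 k 3) {d : ℕ} {c : Fin (d + 1) → Fin 5 → k}
    {i : CohB1.ProjSpace 1 k ⟶ Xf f} (hi : IsPar f d c i) :
    Nonempty ((Scheme.Modules.pullback (i ≫ emb f)).obj (Twist.twistProjSpace 4 k 1) ≅
      Twist.twistProjSpace 1 k (d : ℤ)) := by
  obtain ⟨τ, -⟩ := hi.2
  exact ⟨τ⟩

/-- The set `T` of the row S16531: degenerate smooth rational quartics. -/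
def degSet (f : LefPen.Form 4 k 3) (H : Over (Spec (CommRingCat.of k))) (Z : FGA.HilbSet (ps f) H) :
    Set ↥H.left :=
  {x | ∃ (h : Over.mk (𝟙 (Spec (CommRingCat.of k))) ⟶ H)
      (i : CohB1.ProjSpace 1 k ⟶ (LefPen.hypIdeal f).subscheme),
      x = h.left.base (IsLocalRing.closedPoint k) ∧ IsClosedImmersion i ∧
      i ≫ (LefPen.hypIdeal f).subschemeι ≫ CohB1.ProjSpace.toSpec 4 k = CohB1.ProjSpace.toSpec 1 k ∧
      Nonempty ((Scheme.Modules.pullback (i ≫ (LefPen.hypIdeal f).subschemeι)).obj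
        (Twist.twistProjSpace 4 k 1) ≅ Twist.twistProjSpace 1 k 4) ∧
      (∃ (l : LefPen.Form 4 k 1) (j : CohB1.ProjSpace 1 k ⟶ (LefPen.hypIdeal l).subscheme), l ≠ 0 ∧
        j ≫ (LefPen.hypIdeal l).subschemeι = i ≫ (LefPen.hypIdeal f).subschemeι) ∧
      FGA.hilbPull ((LefPen.hypIdeal f).subschemeι ≫ CohB1.ProjSpace.toSpec 4 k) h Z.1 =
        i.ker.comap (pullback.fst ((LefPen.hypIdeal f).subschemeι ≫ CohB1.ProjSpace.toSpec 4 k)
          (Over.mk (𝟙 (Spec (CommRingCat.of k)))).hom)}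

/-- The classes of the rational normal curves of degree `d`. -/
def parSet (f : LefPen.Form 4 k 3) (H : Over (Spec (CommRingCat.of k))) (Z : FGA.HilbSet (ps f) H) (d : ℕ) :
    Set ↥H.left := {x | ∃ c ∈ Par f d, IsClass f H Z d c x}

theorem parSet_subset (f : Form 4 k 3) (H : Over (Spec (CommRingCat.of k))) (Z : FGA.HilbSet (ps f) H) {d : ℕ}
    (hd : 1 ≤ d) : parSet f H Z d ⊆ ratSet f H Z d := by
  rintro x ⟨c, hc, h, i, hx, hi, he⟩
  exact ⟨h, i, hx, K387.RatNormal.isClosedImmersion f hd hc.1 hi, hi.1, nonempty_iso_of_isPar f hi, he⟩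

theorem irreducible_parSet [IsAlgClosed k] [CharZero k] (f : Form 4 k 3)
    (H : Over (Spec (CommRingCat.of k))) (Z : FGA.HilbSet (ps f) H)
    (hH : FGA.HilbRepresentedBy (ps f) H Z) {d : ℕ} (hd : 1 ≤ d) (hirr : Irr k (Par f d)) :
    IsIrreducible (parSet f H Z d) := by
  refine K714.RatTop.irreducible_par hH hirr (fun c hc => ?_) fun A c₀ hc₀ x₀ hx₀ hA =>
    K387.RatFam.exists_poly_of_mem_open f H Z hH hd A hc₀ hx₀ hA
  obtain ⟨i, hi⟩ := K387.RatNormal.exists_isPar f hd hc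
  exact exists_isClass f H Z hH hi (K387.RatNormal.isClosedImmersion f hd hc.1 hi)

/-- **The statement of S16525** from the nodes. -/
theorem main4 [IsAlgClosed k] [CharZero k] (f : Form 4 k 3) (hf : f ≠ 0) [Smooth (ps f)]
    (H : Over (Spec (CommRingCat.of k))) (Z : FGA.HilbSet (ps f) H)
    (hH : FGA.HilbRepresentedBy (ps f) H Z)
    (hirr : (Par f 4).Nonempty → Irr k (Par f 4))
    (hA1 : ∀ (i : CohB1.ProjSpace 1 k ⟶ Xf f), IsClosedImmersion i → i ≫ ps f = CohB1.ProjSpace.toSpec 1 k →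
      Nonempty ((Scheme.Modules.pullback (i ≫ emb f)).obj (Twist.twistProjSpace 4 k 1) ≅
        Twist.twistProjSpace 1 k 4) →
      ∃ c : Fin 5 → Fin 5 → k, IsPar f 4 c i ∧ (c ∈ Par f 4 ∨
        ∃ (l : LefPen.Form 4 k 1) (j : CohB1.ProjSpace 1 k ⟶ (LefPen.hypIdeal l).subscheme), l ≠ 0 ∧
          j ≫ (LefPen.hypIdeal l).subschemeι = i ≫ (LefPen.hypIdeal f).subschemeι))
    (hE4 : ∃ (c : Fin 5 → Fin 5 → k) (i : CohB1.ProjSpace 1 k ⟶ Xf f), IsPar f 4 c i ∧ IsClosedImmersion i)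
    (h31 : topologicalKrullDim ↥(degSet f H Z) ≤ 7) :
    IsIrreducible (ratSet f H Z 4) ∧ ∀ x ∈ ratSet f H Z 4, ringKrullDim (H.left.presheaf.stalk x) = 8 := by
  have hreg : ∀ x ∈ ratSet f H Z 4, ringKrullDim (H.left.presheaf.stalk x) = 8 := fun x hx => by
    have h1 := (regular_ratSet f hf H Z hH 4 (fun i hi hp hd θ => by
      obtain ⟨c, hc, -⟩ := hA1 i hi hp hd
      exact K475.QuartHom.hom_conormal_quartic f i c hc θ) x hx).2
    rw [h1]
    norm_num
  refine ⟨?_, hreg⟩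
  obtain ⟨A, -, hA⟩ := exists_open_ratSet f hf H Z hH 4
  have hlft : LocallyOfFiniteType H.hom := K496.HilbLft.locallyOfFiniteType 4 (emb f) H Z hH
  have hJ : JacobsonSpace H.left := LocallyOfFiniteType.jacobsonSpace H.hom
  have hsub : ratSet f H Z 4 ⊆ parSet f H Z 4 ∪ degSet f H Z := by
    rintro x ⟨h, i, hx, hi, hp, hd, he⟩
    obtain ⟨c, hc, h1 | h1⟩ := hA1 i hi hp hd
    · exact Or.inl ⟨c, h1, h, i, hx, hc, he⟩
    · exact Or.inr ⟨h, i, hx, hi, hp, hd, h1, he⟩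
  have h78 : topologicalKrullDim ↥(degSet f H Z) < 8 := lt_of_le_of_lt h31 (by norm_num)
  have hcl := subset_closure_of_dim A hA hsub (N := 8) (fun x hx => (hreg x hx).ge) h78
  have hne : (ratSet f H Z 4).Nonempty := by
    obtain ⟨c, i, hi, hci⟩ := hE4
    obtain ⟨x, h, i', hx, hi', he⟩ := exists_isClass f H Z hH hi hci
    obtain rfl := K714.RatTop.isPar_unique hi hi'
    exact ⟨x, h, i, hx, hci, hi.1, nonempty_iso_of_isPar f hi, he⟩
  have hneP : (parSet f H Z 4).Nonempty := by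
    obtain ⟨x, hx⟩ := hne
    exact closure_nonempty_iff.1 ⟨x, hcl hx⟩
  obtain ⟨-, c, hc, -⟩ := hneP
  exact irreducible_of_closure (irreducible_parSet f H Z hH (by norm_num) (hirr ⟨c, hc⟩))
    (parSet_subset f H Z (by norm_num)) hcl

theorem irr_par_four [IsAlgClosed k] [CharZero k] (f : Form 4 k 3) (hf : f ≠ 0) [hs : Smooth (ps f)]
    (h2 : Q2Stmt k) (h3 : Q3Stmt k) (hne : (Par f 4).Nonempty) : Irr k (Par f 4) := by
  rw [par_four] at hne ⊢
  exact q4_irr h2 qnf h3 (K656.Trilin.tri_sym f.1) (K714.JacSm.smoothOn_tri f hf hs) hne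

/-- The statement of S16525 from Q2, Q3, A1, E4 and S16531. -/
theorem final4 [IsAlgClosed k] [CharZero k] (f : Form 4 k 3) (hf : f ≠ 0) [Smooth (ps f)]
    (H : Over (Spec (CommRingCat.of k))) (Z : FGA.HilbSet (ps f) H)
    (hH : FGA.HilbRepresentedBy (ps f) H Z) (h2 : Q2Stmt k) (h3 : Q3Stmt k)
    (hA1 : ∀ (i : CohB1.ProjSpace 1 k ⟶ Xf f), IsClosedImmersion i → i ≫ ps f = CohB1.ProjSpace.toSpec 1 k →
      Nonempty ((Scheme.Modules.pullback (i ≫ emb f)).obj (Twist.twistProjSpace 4 k 1) ≅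
        Twist.twistProjSpace 1 k 4) →
      ∃ c : Fin 5 → Fin 5 → k, IsPar f 4 c i ∧ (c ∈ Par f 4 ∨
        ∃ (l : LefPen.Form 4 k 1) (j : CohB1.ProjSpace 1 k ⟶ (LefPen.hypIdeal l).subscheme), l ≠ 0 ∧
          j ≫ (LefPen.hypIdeal l).subschemeι = i ≫ (LefPen.hypIdeal f).subschemeι))
    (hE4 : ∃ (c : Fin 5 → Fin 5 → k) (i : CohB1.ProjSpace 1 k ⟶ Xf f), IsPar f 4 c i ∧ IsClosedImmersion i)
    (h31 : topologicalKrullDim ↥(degSet f H Z) ≤ 7) :
    IsIrreducible (ratSet f H Z 4) ∧ ∀ x ∈ ratSet f H Z 4, ringKrullDim (H.left.presheaf.stalk x) = 8 :=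
  main4 f hf H Z hH (irr_par_four f hf h2 h3) hA1 hE4 h31

end Groth.Agent.Fano.K468.Asm4
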