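import Groth.Agent.Fano.K468.Asm4
import Groth.Agent.Fano.K475.RatPar
import Groth.Agent.Fano.K483.QuartEx
import Groth.Agent.Fano.K304.ChordQ2

/-!
# S16525 modulo the irreducibility of `P2 T` (Q3) and S16531

* `a1`: parametrisation of the smooth rational quartics.
* `fin4`: the statement of S16525 from `Q3Stmt` and S16531.
-/

set_option autoImplicit false
universe u
open CategoryTheory CategoryTheory.Limits AlgebraicGeometry TopologicalSpace Opposite

namespace Groth.Agent.Fano.K468.Fin4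

open Groth.Agent.Fano.K714.Rat Groth.Agent.Fano.K468.Locus Groth.Agent.Fano.K468.Asm4
open Groth.Agent.Fano.K468.Q K714.Irr LefPen

variable {k : Type u} [Field k] [IsAlgClosed k] [CharZero k]

theorem a1 (f : Form 4 k 3) (i : CohB1.ProjSpace 1 k ⟶ Xf f) (hcl : IsClosedImmersion i)
    (hi : i ≫ ps f = CohB1.ProjSpace.toSpec 1 k)
    (hd : Nonempty ((Scheme.Modules.pullback (i ≫ emb f)).obj (Twist.twistProjSpace 4 k 1) ≅
        Twist.twistProjSpace 1 k 4)) :
    ∃ c : Fin 5 → Fin 5 → k, IsPar f 4 c i ∧ (c ∈ Par f 4 ∨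
      ∃ (l : LefPen.Form 4 k 1) (j : CohB1.ProjSpace 1 k ⟶ (LefPen.hypIdeal l).subscheme), l ≠ 0 ∧
        j ≫ (LefPen.hypIdeal l).subschemeι = i ≫ (LefPen.hypIdeal f).subschemeι) := by
  obtain ⟨c, hc, -, -, h0⟩ := K475.RatPar.exists_par_gen f (d := 4) (by norm_num) i hi hd
  refine ⟨c, hc, ?_⟩
  by_cases hli : LinearIndependent k c
  · exact Or.inl ⟨hli, h0⟩
  · exact Or.inr (K475.RatPar.exists_hyperplane_of_dep f hc hli)

/-- **S16525** from the irreducibility of `P2 T` and S16531. -/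
theorem fin4 (f : Form 4 k 3) (hf : f ≠ 0) [Smooth (ps f)]
    (H : Over (Spec (CommRingCat.of k))) (Z : FGA.HilbSet (ps f) H)
    (hH : FGA.HilbRepresentedBy (ps f) H Z) (h3 : Q3Stmt k)
    (h31 : topologicalKrullDim ↥(degSet f H Z) ≤ 7) :
    IsIrreducible (ratSet f H Z 4) ∧ ∀ x ∈ ratSet f H Z 4, ringKrullDim (H.left.presheaf.stalk x) = 8 :=
  final4 f hf H Z hH K304.ChordQ2.q2' h3 (a1 f) (K483.RatEx.exists_quartic f hf) h31

end Groth.Agent.Fano.K468.Fin4
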