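import Groth.Agent.Fano.K496.OpenCurves
import Groth.Agent.Fano.K560.RegPt
import Groth.Agent.Fano.K287.ConDeg
import Groth.Agent.Fano.K714.ConSplit
import Groth.Agent.Curves.K318.P1Num
import Groth.Agent.CurvesC.DegIso
import Groth.Agent.Sga3C.GeomRedPerf
import Groth.Agent.Fdesc.GeomAlgClosed
import Groth.Agent.S7834
import Groth.Agent.S1697

/-!
# The locus of smooth rational curves of degree `d` in the Hilbert scheme of a cubic threefold

* `ratSet f H Z d`: the points of the Hilbert scheme classifying closed immersions `P^1 → V_+(f)` along which `O(1)`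
  pulls back to `O(d)` (the set `T` of the rows S16522, S16523, S16525, S16526).
* `ratSet_eq`: it is the set of the smooth connected curves of genus zero and degree `d`, so the set of closed points
  of an open subscheme (`exists_open_ratSet`).
* `regular_ratSet`: the Hilbert scheme is regular of dimension `2d` at its points if there are no maps from the conormal
  sheaf to `O(-2d)`.
-/

set_option autoImplicit false
universe u
open CategoryTheory CategoryTheory.Limits AlgebraicGeometry TopologicalSpace Opposite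

namespace Groth.Agent.Fano.K468.Locus

open Groth.Agent.Fano.K714.Rat Groth.Agent.Fano.K715.Quint

variable {k : Type u} [Field k]

/-- The points of the Hilbert scheme of `V_+(f)` classifying smooth rational curves of degree `d`. -/
def ratSet (f : LefPen.Form 4 k 3) (H : Over (Spec (CommRingCat.of k))) (Z : FGA.HilbSet (ps f) H) (d : ℤ) :
    Set ↥H.left :=
  {x | ∃ (h : Over.mk (𝟙 (Spec (CommRingCat.of k))) ⟶ H)
      (i : CohB1.ProjSpace 1 k ⟶ (LefPen.hypIdeal f).subscheme),
      x = h.left.base (IsLocalRing.closedPoint k) ∧ IsClosedImmersion i ∧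
      i ≫ (LefPen.hypIdeal f).subschemeι ≫ CohB1.ProjSpace.toSpec 4 k = CohB1.ProjSpace.toSpec 1 k ∧
      Nonempty ((Scheme.Modules.pullback (i ≫ (LefPen.hypIdeal f).subschemeι)).obj
        (Twist.twistProjSpace 4 k 1) ≅ Twist.twistProjSpace 1 k d) ∧
      FGA.hilbPull ((LefPen.hypIdeal f).subschemeι ≫ CohB1.ProjSpace.toSpec 4 k) h Z.1 =
        i.ker.comap (pullback.fst ((LefPen.hypIdeal f).subschemeι ≫ CohB1.ProjSpace.toSpec 4 k)
          (Over.mk (𝟙 (Spec (CommRingCat.of k)))).hom)}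

theorem smooth_toSpec (n : ℕ) : Smooth (CohB1.ProjSpace.toSpec n k) := by
  have := Groth.Agent.Sga5.ProjSmooth.smooth_toSpec n k
  exact SmoothOfRelativeDimension.smooth n _

variable [IsAlgClosed k]

theorem ratSet_subset (f : LefPen.Form 4 k 3) (H : Over (Spec (CommRingCat.of k))) (Z : FGA.HilbSet (ps f) H)
    (d : ℤ) : ratSet f H Z d ⊆ curveSet f H Z 0 d := by
  rintro x ⟨h, i, hx, hi, hp, ⟨e⟩, he⟩
  refine ⟨h, CohB1.ProjSpace 1 k, CohB1.ProjSpace.toSpec 1 k, i, hx, hi, hp, smooth_toSpec 1,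
    Groth.Agent.Ega3B.ProjProper.isProper_toSpec 1 k, inferInstance,
    Groth.Agent.Models.H58.P1Model.topologicalKrullDim_P1 k, K318.P1Num.genus_eq k, ?_, he⟩
  rw [K496.OpenCurves.deg_congr _ e]
  exact K318.P1Num.deg_twist k d

theorem curveSet_subset (f : LefPen.Form 4 k 3) (H : Over (Spec (CommRingCat.of k))) (Z : FGA.HilbSet (ps f) H)
    (d : ℤ) : curveSet f H Z 0 d ⊆ ratSet f H Z d := by
  rintro x ⟨h, C, p, i, hx, hi, hp, hs, hpr, hint, hdim, hg, hdeg, he⟩
  letI : C.Over (Spec (CommRingCat.of k)) := ⟨p⟩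
  have h2 : IsProper (C ↘ Spec (CommRingCat.of k)) := hpr
  have hr : GeometricallyReduced (C ↘ Spec (CommRingCat.of k)) :=
    Groth.Agent.Sga3C.GeomRedPerf.geometricallyReduced_of_isReduced _
  have hi' : GeometricallyIrreducible (C ↘ Spec (CommRingCat.of k)) :=
    Groth.Agent.Fdesc.GeomAlgClosed.geometricallyIrreducible_of_irreducibleSpace _
  have hgi : GeometricallyIntegral (C ↘ Spec (CommRingCat.of k)) :=
    .of_geometricallyReduced_of_geometricallyIrreducible _
  obtain ⟨e, hee⟩ := Groth.Agent.S7834.result k C hdim hg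
  have hee' : e.inv ≫ p = CohB1.ProjSpace.toSpec 1 k := by
    rw [Iso.inv_comp_eq]; exact hee.symm
  have hL : PicF.IsInvertible ((Scheme.Modules.pullback ((e.inv ≫ i) ≫ emb f)).obj (Twist.twistProjSpace 4 k 1)) :=
    Fdesc.LocGen.isInvertible_pullback _ (Ega3B.ProjTwist.isInvertible_twistProjSpace 4 k 1)
  obtain ⟨m, ⟨em⟩⟩ := Groth.Agent.S1697.result k 1 _ hL
  have hm : m = d := by
    have e2 : (Scheme.Modules.pullback ((e.inv ≫ i) ≫ emb f)).obj (Twist.twistProjSpace 4 k 1) ≅
        (Scheme.Modules.pullback e.inv).obj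
          ((Scheme.Modules.pullback (i ≫ emb f)).obj (Twist.twistProjSpace 4 k 1)) :=
      (Scheme.Modules.pullbackCongr (Category.assoc _ _ _)).app _ ≪≫
        ((Scheme.Modules.pullbackComp e.inv (i ≫ emb f)).app _).symm
    have h3 := Groth.Agent.CurvesC.DegIso.deg_pullback_iso k e.symm (by exact hee')
      ((Scheme.Modules.pullback (i ≫ emb f)).obj (Twist.twistProjSpace 4 k 1)) 1
    have h4 := K318.P1Num.deg_twist k m
    rw [← K496.OpenCurves.deg_congr _ em, K496.OpenCurves.deg_congr _ e2] at h4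
    rw [← h4, ← hdeg]
    exact h3
  subst hm
  refine ⟨h, e.inv ≫ i, hx, inferInstance, ?_, ⟨em⟩, ?_⟩
  · rw [Category.assoc, hp]; exact hee'
  · rw [he, Scheme.Hom.ker_comp_of_isIso]

theorem ratSet_eq (f : LefPen.Form 4 k 3) (H : Over (Spec (CommRingCat.of k))) (Z : FGA.HilbSet (ps f) H)
    (d : ℤ) : ratSet f H Z d = curveSet f H Z 0 d :=
  (ratSet_subset f H Z d).antisymm (curveSet_subset f H Z d)

variable [CharZero k]

theorem exists_open_ratSet (f : LefPen.Form 4 k 3) (hf : f ≠ 0) [Smooth (ps f)]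
    (H : Over (Spec (CommRingCat.of k))) (Z : FGA.HilbSet (ps f) H)
    (hH : FGA.HilbRepresentedBy (ps f) H Z) (d : ℤ) :
    ∃ A : H.left.Opens, LocallyOfFiniteType (A.ι ≫ H.hom) ∧
      ∀ x : ↥H.left, x ∈ ratSet f H Z d ↔ x ∈ A ∧ IsClosed ({x} : Set ↥H.left) := by
  rw [ratSet_eq]
  exact K496.OpenCurves.exists_open_curveSet f hf H Z hH 0 d

/-- regularity of the Hilbert scheme at smooth rational curves of degree `d` -/
theorem regular_ratSet (f : LefPen.Form 4 k 3) (hf : f ≠ 0) [Smooth (ps f)]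
    (H : Over (Spec (CommRingCat.of k))) (Z : FGA.HilbSet (ps f) H)
    (hH : FGA.HilbRepresentedBy (ps f) H Z) (d : ℕ)
    (hcon : ∀ (i : CohB1.ProjSpace 1 k ⟶ Xf f), IsClosedImmersion i → i ≫ ps f = CohB1.ProjSpace.toSpec 1 k →
      Nonempty ((Scheme.Modules.pullback (i ≫ emb f)).obj (Twist.twistProjSpace 4 k 1) ≅
        Twist.twistProjSpace 1 k (d : ℤ)) →
      ∀ θ : Omega.conormal i ⟶ Twist.twistProjSpace 1 k (-2 * (d : ℤ)), θ = 0)
    (x : ↥H.left) (hx : x ∈ ratSet f H Z d) :
    IsRegularLocalRing (H.left.presheaf.stalk x) ∧ ringKrullDim (H.left.presheaf.stalk x) = (2 * d : ℕ) := by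
  obtain ⟨h, i, rfl, hi, hp, hd, he⟩ := hx
  obtain ⟨a, b, h1, h2, h3, -, h5⟩ := K714.ConSplit.exists_split
    (K287.ConDeg.locFree_conormal f hf i hp) (2 - 2 * (d : ℤ)) (-2 * (d : ℤ))
    (K287.ConDeg.extPow_conormal f hf i hp d hd) (hcon i hi hp hd)
  exact K560.RegPt.regular_of_conormal f hf H Z hH i hp h he ![b, a] (fun j => by
    fin_cases j
    · change b ≤ 1; omega
    · change a ≤ 1; omega) (2 * d) (by
      change ((2 * d : ℕ) : ℤ) = 2 - b - a
      push_cast; omega) h5

end Groth.Agent.Fano.K468.Locus
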