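import Groth.Agent.Fano.K468.Asm4
import Groth.Agent.Fano.K475.RatPar
import Groth.Agent.Fano.K483.QuartEx
import Groth.Agent.Fano.K470.Curves
import Groth.Agent.Fano.K470.Asm

/-!
# S16525 through the irreducibility of the space of curves of rank at least three (helper470's plan)

* `irr_par`: `Par f d` (linearly independent coefficients) is irreducible for every `2 ≤ d`, from `irr_rank`.
* `main`: S16525 from `IncProp` and S16531.
-/

set_option autoImplicit false
universe u
open CategoryTheory CategoryTheory.Limits AlgebraicGeometry TopologicalSpace Opposite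

namespace Groth.Agent.Fano.K468.PlanA4

open Groth.Agent.Fano.K714.Rat Groth.Agent.Fano.K468.Locus Groth.Agent.Fano.K468.Asm4
open K714.Irr LefPen

variable {k : Type u} [Field k] [IsAlgClosed k] [CharZero k]

theorem mem_par_iff (f : Form 4 k 3) {d : ℕ} (c : K470.Cur.A k d) : c ∈ Par f d ↔
    c ∈ K470.Cur.Z (K656.Trilin.tri f.1) d ∧ d + 1 ≤ Module.finrank k ↥(Submodule.span k (Set.range c)) := by
  rw [K470.Asm.mem_Z_iff, and_comm]
  refine and_congr_left fun _ => ?_
  rw [linearIndependent_iff_card_le_finrank_span, Fintype.card_fin]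
  rfl

/-- Rational normal curves of degree `d ≥ 2` on a smooth cubic threefold form an irreducible set. -/
theorem irr_par (f : Form 4 k 3) (hf : f ≠ 0) [hs : Smooth (ps f)] {d : ℕ} (hd : 2 ≤ d)
    (hI : K470.Curves.IncProp (K656.Trilin.tri f.1)) (hne : (Par f d).Nonempty) : Irr k (Par f d) := by
  obtain ⟨c, hc⟩ := hne
  obtain ⟨h1, h2⟩ := (mem_par_iff f c).1 hc
  have hR := K470.Curves.irr_rank hI (K656.Trilin.tri_sym f.1) (K714.JacSm.smoothOn_tri f hf hs) (e := d)
    ⟨c, h1, by omega⟩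
  have h3 := hR.inter_open (K470.Curves.isZOpen_rank (e := d) (r := d + 1)) ⟨c, ⟨h1, by omega⟩, h2⟩
  have h4 : Par f d = {a : K470.Cur.A k d | a ∈ K470.Cur.Z (K656.Trilin.tri f.1) d ∧
      3 ≤ Module.finrank k ↥(Submodule.span k (Set.range a))} ∩
        {a | d + 1 ≤ Module.finrank k ↥(Submodule.span k (Set.range a))} := by
    ext a
    rw [mem_par_iff]
    constructor
    · rintro ⟨g1, g2⟩
      exact ⟨⟨g1, by omega⟩, g2⟩
    · rintro ⟨⟨g1, -⟩, g2⟩
      exact ⟨g1, g2⟩
  rw [h4]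
  exact h3

theorem a1 (f : Form 4 k 3) (i : CohB1.ProjSpace 1 k ⟶ Xf f) (hcl : IsClosedImmersion i)
    (hi : i ≫ ps f = CohB1.ProjSpace.toSpec 1 k)
    (hd : Nonempty ((Scheme.Modules.pullback (i ≫ emb f)).obj (Twist.twistProjSpace 4 k 1) ≅
        Twist.twistProjSpace 1 k 4)) :
    ∃ c : Fin 5 → Fin 5 → k, IsPar f 4 c i ∧ (c ∈ Par f 4 ∨
      ∃ (l : LefPen.Form 4 k 1) (j : CohB1.ProjSpace 1 k ⟶ (LefPen.hypIdeal l).subscheme), l ≠ 0 ∧
        j ≫ (LefPen.hypIdeal l).subschemeι = i ≫ (LefPen.hypIdeal f).subschemeι) := by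
  obtain ⟨c, hc, -, -, h0⟩ := K475.RatPar.exists_par_gen f (d := 4) (by norm_num) i hi hd
  refine ⟨c, hc, ?_⟩
  by_cases hli : LinearIndependent k c
  · exact Or.inl ⟨hli, h0⟩
  · exact Or.inr (K475.RatPar.exists_hyperplane_of_dep f hc hli)

/-- **S16525** from the incidence property (node CL5) and S16531. -/
theorem main (f : Form 4 k 3) (hf : f ≠ 0) [Smooth (ps f)]
    (H : Over (Spec (CommRingCat.of k))) (Z : FGA.HilbSet (ps f) H)
    (hH : FGA.HilbRepresentedBy (ps f) H Z) (hI : K470.Curves.IncProp (K656.Trilin.tri f.1))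
    (h31 : topologicalKrullDim ↥(degSet f H Z) ≤ 7) :
    IsIrreducible (ratSet f H Z 4) ∧ ∀ x ∈ ratSet f H Z 4, ringKrullDim (H.left.presheaf.stalk x) = 8 :=
  main4 f hf H Z hH (irr_par f hf (by norm_num) hI) (a1 f) (K483.RatEx.exists_quartic f hf) h31

end Groth.Agent.Fano.K468.PlanA4
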